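/- Constructible sets: finite unions of locally closed sets, noetherian induction, subspaces. -/
import Mathlib

set_option autoImplicit false

open Set Topology TopologicalSpace

namespace Groth.Agent.ConstrTop.Basic

universe u

variable {X : Type u} [TopologicalSpace X]

/-- constructible sets are generated by differences `U \ V` under finite unions -/
theorem induction_sdiff {P : Set X → Prop}
    (sdiff : ∀ U V : Set X, IsOpen U → IsRetrocompact U → IsOpen V → IsRetrocompact V → P (U \ V))
    (union : ∀ s t, P s → P t → P (s ∪ t)) {s : Set X} (hs : IsConstructible s) : P s := by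
  induction s, hs using BooleanSubalgebra.closure_sdiff_sup_induction with
  | isSublattice =>
    exact ⟨fun s hs t ht ↦ ⟨hs.1.union ht.1, hs.2.union ht.2⟩,
      fun s hs t ht ↦ ⟨hs.1.inter ht.1, hs.2.inter_isOpen ht.2 ht.1⟩⟩
  | bot_mem => exact ⟨isOpen_empty, .empty⟩
  | top_mem => exact ⟨isOpen_univ, .univ⟩
  | sdiff U hU V hV => exact sdiff U V hU.1 hU.2 hV.1 hV.2
  | sup s _ t _ hs ht => exact union s t hs ht

theorem isRetrocompact_of_isConstructible {s : Set X} (hs : IsConstructible s) :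
    IsRetrocompact s := by
  refine induction_sdiff (P := IsRetrocompact) ?_ (fun _ _ h h' => h.union h') hs
  intro U V _ hU hV _ W hW hWo
  rw [show (U \ V) ∩ W = (U ∩ W) ∩ Vᶜ by ext; simp only [mem_inter_iff, mem_sdiff, mem_compl_iff]; tauto]
  exact (hU hW hWo).inter_right hV.isClosed_compl

theorem exists_lc {s : Set X} (hs : IsConstructible s) :
    ∃ (n : ℕ) (Z : Fin n → Set X), (∀ i, IsLocallyClosed (Z i)) ∧ s = ⋃ i, Z i := by
  refine induction_sdiff (P := fun s => ∃ (n : ℕ) (Z : Fin n → Set X),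
    (∀ i, IsLocallyClosed (Z i)) ∧ s = ⋃ i, Z i) ?_ ?_ hs
  · intro U V hU _ hV _
    exact ⟨1, fun _ => U \ V, fun _ => hU.isLocallyClosed.inter hV.isClosed_compl.isLocallyClosed,
      (iUnion_const _).symm⟩
  · rintro _ _ ⟨n, Z, hZ, rfl⟩ ⟨m, W, hW, rfl⟩
    refine ⟨n + m, Fin.append Z W, fun i => ?_, ?_⟩
    · induction i using Fin.addCases <;> simp [hZ, hW]
    · ext x; simp only [mem_union, mem_iUnion]
      constructor
      · rintro (⟨i, h⟩ | ⟨i, h⟩)
        · exact ⟨Fin.castAdd m i, by simpa using h⟩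
        · exact ⟨Fin.natAdd n i, by simpa using h⟩
      · rintro ⟨i, h⟩
        induction i using Fin.addCases with
        | left i => exact Or.inl ⟨i, by simpa using h⟩
        | right i => exact Or.inr ⟨i, by simpa using h⟩

/-- an irreducible set in the closure of a finite union lies in the closure of a member -/
theorem exists_subset_closure {Y : Set X} (hY : IsIrreducible Y) {ι : Type*} [Finite ι]
    (S : ι → Set X) (h : Y ⊆ closure (⋃ i, S i)) : ∃ i, Y ⊆ closure (S i) := by
  classical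
  rw [closure_iUnion_of_finite] at h
  obtain ⟨z, hz, hYz⟩ := isIrreducible_iff_sUnion_isClosed.mp hY (Set.finite_range fun i => closure (S i)).toFinset
    (by simp) (by simpa using h)
  simp only [Finite.mem_toFinset, mem_range] at hz
  obtain ⟨i, rfl⟩ := hz
  exact ⟨i, hYz⟩

/-- a finite union of locally closed sets dense on an irreducible set contains an open piece of it -/
theorem exists_open_of_dense {Y : Set X} (hY : IsIrreducible Y) {ι : Type*} [Finite ι]
    (L : ι → Set X) (hL : ∀ i, IsLocallyClosed (L i)) (h : Y ⊆ closure ((⋃ i, L i) ∩ Y)) :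
    ∃ U : Set X, IsOpen U ∧ (U ∩ Y).Nonempty ∧ U ∩ Y ⊆ ⋃ i, L i := by
  rw [iUnion_inter] at h
  obtain ⟨i, hi⟩ := exists_subset_closure hY _ h
  obtain ⟨U, Z, hU, hZ, hUZ⟩ := hL i
  have hYZ : Y ⊆ Z := hi.trans (closure_minimal (inter_subset_left.trans (hUZ ▸ inter_subset_right)) hZ)
  refine ⟨U, hU, ?_, fun x hx => mem_iUnion.mpr ⟨i, hUZ ▸ ⟨hx.1, hYZ hx.2⟩⟩⟩
  obtain ⟨y, hy⟩ := hY.nonempty
  obtain ⟨z, hz⟩ : (L i ∩ Y).Nonempty := closure_nonempty_iff.mp ⟨y, hi hy⟩
  exact ⟨z, (hUZ ▸ hz.1).1, hz.2⟩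

theorem exists_open_of_dense' {Y : Set X} (hY : IsIrreducible Y) {E : Set X}
    (hE : IsConstructible E) (h : Y ⊆ closure (E ∩ Y)) :
    ∃ U : Set X, IsOpen U ∧ (U ∩ Y).Nonempty ∧ U ∩ Y ⊆ E := by
  obtain ⟨n, L, hL, rfl⟩ := exists_lc hE
  exact exists_open_of_dense hY L hL h

theorem subset_closure_inter {Y : Set X} (hY : IsIrreducible Y) {U : Set X} (hU : IsOpen U)
    (h : (U ∩ Y).Nonempty) : Y ⊆ closure (U ∩ Y) :=
  (subset_closure_inter_of_isPreirreducible_of_isOpen hY.isPreirreducible hU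
    (by rwa [inter_comm])).trans (closure_mono (by rw [inter_comm]))

/-- Noetherian induction on closed sets, with the irreducible ones as only step. -/
theorem closed_induction [NoetherianSpace X] {P : Set X → Prop} (empty : P ∅)
    (union : ∀ A B, IsClosed A → IsClosed B → P A → P B → P (A ∪ B))
    (irr : ∀ Y, IsClosed Y → IsIrreducible Y → (∀ Z, IsClosed Z → Z ⊂ Y → P Z) → P Y)
    {Z : Set X} (hZ : IsClosed Z) : P Z := by
  suffices h : ∀ C : Closeds X, P C from h ⟨Z, hZ⟩
  intro C
  induction C using WellFoundedLT.induction with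
  | _ C ih =>
    have ih' : ∀ A, IsClosed A → A ⊂ (C : Set X) → P A := fun A hA hAC => ih ⟨A, hA⟩ hAC
    rcases (C : Set X).eq_empty_or_nonempty with h | h
    · rw [h]; exact empty
    · by_cases hi : IsPreirreducible (C : Set X)
      · exact irr _ C.isClosed ⟨h, hi⟩ ih'
      · rw [isPreirreducible_iff_isClosed_union_isClosed] at hi
        push Not at hi
        obtain ⟨A, B, hA, hB, hAB, hnA, hnB⟩ := hi
        rw [← inter_eq_left.mpr hAB, inter_union_distrib_left]
        exact union _ _ (C.isClosed.inter hA) (C.isClosed.inter hB)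
          (ih' _ (C.isClosed.inter hA) ⟨inter_subset_left, fun h => hnA (h.trans inter_subset_right)⟩)
          (ih' _ (C.isClosed.inter hB) ⟨inter_subset_left, fun h => hnB (h.trans inter_subset_right)⟩)

theorem isRetrocompact_of_noetherian [NoetherianSpace X] (s : Set X) : IsRetrocompact s :=
  fun _ _ _ => NoetherianSpace.isCompact _

theorem isConstructible_open [NoetherianSpace X] {U : Set X} (hU : IsOpen U) : IsConstructible U :=
  (isRetrocompact_of_noetherian U).isConstructible hU

theorem isConstructible_closed [NoetherianSpace X] {Z : Set X} (hZ : IsClosed Z) :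
    IsConstructible Z :=
  (isConstructible_open hZ.isOpen_compl).of_compl

theorem isConstructible_lc [NoetherianSpace X] {Z : Set X} (hZ : IsLocallyClosed Z) :
    IsConstructible Z := by
  obtain ⟨U, C, hU, hC, rfl⟩ := hZ
  exact (isConstructible_open hU).inter (isConstructible_closed hC)

theorem sdiff_ssubset {Y U : Set X} (h : (U ∩ Y).Nonempty) : Y \ U ⊂ Y := by
  obtain ⟨z, hzU, hzY⟩ := h
  exact ⟨sdiff_subset, fun h' => (h' hzY).2 hzU⟩

/-- a set which near each of its points is, on each irreducible closed set through the point,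
a neighbourhood of part of it -/
theorem mem_interior_of_forall [NoetherianSpace X] (x : X) {E : Set X}
    (H : ∀ Y : Set X, IsClosed Y → IsIrreducible Y → x ∈ Y →
      ∃ U : Set X, IsOpen U ∧ (U ∩ Y).Nonempty ∧ U ∩ Y ⊆ E) : E ∈ nhds x := by
  have := closed_induction (P := fun Z => x ∈ Z → ∃ W, IsOpen W ∧ x ∈ W ∧ W ∩ Z ⊆ E)
    (fun h => h.elim) ?_ ?_ isClosed_univ (mem_univ x)
  · obtain ⟨W, hW, hxW, hWE⟩ := this
    rw [inter_univ] at hWE
    exact mem_nhds_iff.mpr ⟨W, hWE, hW, hxW⟩
  · intro A B hA hB hPA hPB hx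
    by_cases hxA : x ∈ A
    · obtain ⟨W, hW, hxW, hWE⟩ := hPA hxA
      by_cases hxB : x ∈ B
      · obtain ⟨W', hW', hxW', hWE'⟩ := hPB hxB
        refine ⟨W ∩ W', hW.inter hW', ⟨hxW, hxW'⟩, ?_⟩
        rintro z ⟨⟨h1, h2⟩, h | h⟩
        exacts [hWE ⟨h1, h⟩, hWE' ⟨h2, h⟩]
      · refine ⟨W ∩ Bᶜ, hW.inter hB.isOpen_compl, ⟨hxW, hxB⟩, ?_⟩
        rintro z ⟨⟨h1, h2⟩, h | h⟩
        exacts [hWE ⟨h1, h⟩, absurd h h2]
    · obtain ⟨W, hW, hxW, hWE⟩ := hPB (hx.resolve_left hxA)
      refine ⟨W ∩ Aᶜ, hW.inter hA.isOpen_compl, ⟨hxW, hxA⟩, ?_⟩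
      rintro z ⟨⟨h1, h2⟩, h | h⟩
      exacts [absurd h h2, hWE ⟨h1, h⟩]
  · intro Y hY hYi ih hx
    obtain ⟨U, hU, hne, hUE⟩ := H Y hY hYi hx
    by_cases hxU : x ∈ U
    · exact ⟨U, hU, hxU, hUE⟩
    · obtain ⟨W, hW, hxW, hWE⟩ := ih (Y \ U) (hY.sdiff hU) (sdiff_ssubset hne) ⟨hx, hxU⟩
      refine ⟨W, hW, hxW, fun z hz => ?_⟩
      by_cases hzU : z ∈ U
      exacts [hUE ⟨hzU, hz.2⟩, hWE ⟨hz.1, hz.2, hzU⟩]

/-- constructible and stable under specialisation is closed -/
theorem isClosed_of_stable [NoetherianSpace X] [QuasiSober X] {E : Set X} (hE : IsConstructible E)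
    (hst : StableUnderSpecialization E) : IsClosed E := by
  refine closure_subset_iff_isClosed.mp ?_
  have := closed_induction (P := fun Z => closure (E ∩ Z) ⊆ E) (by simp) ?_ ?_
    (isClosed_univ (X := X))
  · simpa using this
  · intro A B _ _ hA hB
    rw [inter_union_distrib_left, closure_union]
    exact union_subset hA hB
  · intro Y hY hYi ih
    have hle : closure (E ∩ Y) ⊆ Y := closure_minimal inter_subset_right hY
    by_cases heq : closure (E ∩ Y) = Y
    · obtain ⟨U, hU, hne, hUE⟩ := exists_open_of_dense' hYi hE heq.symm.subset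
      obtain ⟨ξ, hξ⟩ := QuasiSober.sober hYi hY
      have hξE : ξ ∈ E := hUE ⟨(hξ.mem_open_set_iff hU).mpr (by rwa [inter_comm]), hξ.mem⟩
      exact fun z hz => hst (hξ.specializes (hle hz)) hξE
    · refine (closure_mono ?_).trans (ih _ isClosed_closure ⟨hle, fun h => heq (hle.antisymm h)⟩)
      exact fun z hz => ⟨hz.1, subset_closure hz⟩

theorem isOpen_of_stable [NoetherianSpace X] [QuasiSober X] {E : Set X} (hE : IsConstructible E)
    (hst : StableUnderGeneralization E) : IsOpen E :=
  isClosed_compl_iff.mp (isClosed_of_stable hE.compl hst.compl)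

theorem exists_compact_open_between [PrespectralSpace X] {K V : Set X} (hK : IsCompact K)
    (hV : IsOpen V) (h : K ⊆ V) : ∃ V0, IsOpen V0 ∧ IsCompact V0 ∧ K ⊆ V0 ∧ V0 ⊆ V := by
  obtain ⟨S, hS, hSV⟩ := PrespectralSpace.isTopologicalBasis.open_eq_sUnion hV
  obtain ⟨t, ht⟩ := hK.elim_finite_subcover (fun s : S => (s : Set X)) (fun s => (hS s.2).1)
    (by rw [← sUnion_eq_iUnion, ← hSV]; exact h)
  refine ⟨⋃ s ∈ t, (s : Set X), isOpen_biUnion fun s _ => (hS s.2).1,
    t.isCompact_biUnion fun s _ => (hS s.2).2, ht, ?_⟩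
  rw [hSV]; exact iUnion₂_subset fun s _ => subset_sUnion_of_mem s.2

theorem isConstructible_preimage_val [PrespectralSpace X] {T : Set X} (hT : IsRetrocompact T)
    {E : Set X} (hE : IsConstructible E) : IsConstructible ((Subtype.val : T → X) ⁻¹' E) := by
  refine hE.preimage continuous_subtype_val fun U hU hUr W hW hWo => ?_
  obtain ⟨V, hV, rfl⟩ := isOpen_induced_iff.mp hWo
  rw [Subtype.isCompact_iff] at hW ⊢
  obtain ⟨V0, h0, h0c, hKV, hV0V⟩ :=
    exists_compact_open_between hW hV (image_preimage_subset _ _)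
  have e : (Subtype.val : T → X) '' (Subtype.val ⁻¹' U ∩ Subtype.val ⁻¹' V) = T ∩ (U ∩ V0) := by
    ext z; constructor
    · rintro ⟨⟨z, hz⟩, ⟨h1, h2⟩, rfl⟩; exact ⟨hz, h1, hKV ⟨⟨z, hz⟩, h2, rfl⟩⟩
    · rintro ⟨hz, h1, h2⟩; exact ⟨⟨z, hz⟩, ⟨h1, hV0V h2⟩, rfl⟩
  rw [e]
  exact hT (hUr h0c h0) (hU.inter h0)

theorem isConstructible_image_val {E : Set X} (hE : IsConstructible E) {F : Set E}
    (hF : IsConstructible F) : IsConstructible ((Subtype.val : E → X) '' F) := by
  have hEr := isRetrocompact_of_isConstructible hE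
  induction hF using IsConstructible.empty_union_induction with
  | union s hs t ht hs' ht' => rw [image_union]; exact hs'.union ht'
  | compl s hs hs' =>
    rw [image_compl_eq_range_sdiff_image Subtype.val_injective, Subtype.range_coe]
    exact hE.sdiff hs'
  | open_retrocompact F hFo hFr =>
    obtain ⟨V, hV, rfl⟩ := isOpen_induced_iff.mp hFo
    rw [Subtype.image_preimage_coe]
    refine induction_sdiff (P := fun P => P ⊆ E → IsConstructible (P ∩ V)) ?_ ?_ hE subset_rfl
    · intro U U' hU hUr hU' hU'r hPE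
      have hG : IsRetrocompact (U ∩ (V ∪ U')) := by
        intro W hW hWo
        have h1 : IsCompact (E ∩ (U ∩ W) ∩ V) := by
          have hc : IsCompact ((Subtype.val : E → X) ⁻¹' (U ∩ W)) := by
            rw [Subtype.isCompact_iff, Subtype.image_preimage_coe]
            exact hEr (hUr hW hWo) (hU.inter hWo)
          have := hFr hc ((hU.inter hWo).preimage continuous_subtype_val)
          rw [Subtype.isCompact_iff, ← preimage_inter, Subtype.image_preimage_coe, inter_comm V,
            ← inter_assoc] at this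
          exact this
        have e : U ∩ (V ∪ U') ∩ W = (E ∩ (U ∩ W) ∩ V) ∩ U'ᶜ ∪ U' ∩ (U ∩ W) := by
          ext z
          have := @hPE z
          simp only [mem_inter_iff, mem_union, mem_compl_iff, mem_sdiff] at this ⊢
          tauto
        rw [e]
        exact (h1.inter_right hU'.isClosed_compl).union (hU'r (hUr hW hWo) (hU.inter hWo))
      rw [show (U \ U') ∩ V = (U ∩ (V ∪ U')) \ U' by
        ext z; simp only [mem_inter_iff, mem_union, mem_sdiff]; tauto]
      exact (hG.isConstructible (hU.inter (hV.union hU'))).sdiff (hU'r.isConstructible hU')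
    · intro s t hs ht h
      rw [union_inter_distrib_right]
      exact (hs (subset_union_left.trans h)).union (ht (subset_union_right.trans h))

end Groth.Agent.ConstrTop.Basic
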